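import Cfsg.Agent.Helper7.TiMult.Glue

/-!
# Membership in `T0`, conjugation checks, and the fusion of commutators

* `mem_of_memChk` : a coded permutation that agrees pointwise with a word in helper56's
  generators of `T0` lies in `T0`.
* `conj_of_chk` : pointwise check of `u' = c⁻¹ u c` for words `u`, `u'` in the letters.
* `comm_fusion` : in a central extension, the commutator of lifts of two commuting elements is
  invariant under conjugation of the pair of elements in the quotient.
-/

set_option autoImplicit false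
set_option maxRecDepth 1000000

namespace Cfsg.Agent.Helper7.TiMult

open Cfsg.Agent.Helper56 Cfsg.Agent.Helper56.PermW Cfsg.Agent.Helper56.Tits
open Cfsg.Agent.Helper7.ModTC

open scoped commutatorElement

universe u v

/-- the letter `l` agrees pointwise with the word `w` in the generators of `T0` -/
def memChk (cs : List ℕ) (l : ℕ) (w : List ℕ) : Bool :=
  lettersLt 7 w &&
    (List.range 1755).all fun p => dig 12 4095 (cs.getD l 0) p == appWord 12 4095 csT w p

theorem mem_of_memChk {cs cis : List ℕ} (hv : allValid 12 4095 1755 cs cis = true) {l : ℕ}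
    (hl : l < cs.length) {w : List ℕ} (h : memChk cs l w = true) : gn cs cis l ∈ T0 := by
  simp only [memChk, Bool.and_eq_true, List.all_eq_true, List.mem_range, beq_iff_eq] at h
  obtain ⟨h1, h2⟩ := h
  have e : gn cs cis l = wprod genT w := by
    ext p
    rw [genOf_apply hv l hl p, wprod_apply validT w (ltT h1) p]
    exact h2 p.val p.isLt
  rw [e, T0_eq]
  exact wprod_mem genT 7 w (lettersLt_spec h1)

/-- pointwise check of `c * u' = u * c` -/
def conjChk (cs : List ℕ) (cc : ℕ) (u u' : List ℕ) : Bool :=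
  (List.range 1755).all fun p =>
    dig 12 4095 cc (appWord 12 4095 cs u' p) == appWord 12 4095 cs u (dig 12 4095 cc p)

theorem conj_of_chk {cs cis : List ℕ} {k : ℕ} (hv : allValid 12 4095 1755 cs cis = true)
    (hp : pairChk cs cis k = true) {cc cci : ℕ} (hc : validCode 12 4095 1755 cc cci = true)
    {u u' : List ℕ} (hu : ∀ l ∈ u, l < 2 * k) (hu' : ∀ l ∈ u', l < 2 * k)
    (h : conjChk cs cc u u' = true) :
    permOfCode 12 4095 1755 cc cci * wprod (gn cs cis) u' =
      wprod (gn cs cis) u * permOfCode 12 4095 1755 cc cci := by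
  simp only [conjChk, List.all_eq_true, List.mem_range, beq_iff_eq] at h
  ext p
  rw [Equiv.Perm.mul_apply, Equiv.Perm.mul_apply, permOfCode_apply hc, wprod_val hv hp hu',
    wprod_val hv hp hu, permOfCode_apply hc]
  exact h p.val p.isLt

section Comm

variable {Γ : Type u} {G : Type v} [Group Γ] [Group G]

theorem comm_mul_central_left (a b k : Γ) (hk : k ∈ Subgroup.center Γ) :
    ⁅a * k, b⁆ = ⁅a, b⁆ := by
  have c : k * b = b * k := (Subgroup.mem_center_iff.mp hk b).symm
  rw [commutatorElement_def, commutatorElement_def, mul_inv_rev]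
  calc a * k * b * (k⁻¹ * a⁻¹) * b⁻¹ = a * (k * b) * k⁻¹ * a⁻¹ * b⁻¹ := by group
    _ = a * (b * k) * k⁻¹ * a⁻¹ * b⁻¹ := by rw [c]
    _ = a * b * a⁻¹ * b⁻¹ := by group

theorem comm_mul_central_right (a b k : Γ) (hk : k ∈ Subgroup.center Γ) :
    ⁅a, b * k⁆ = ⁅a, b⁆ := by
  have c : k * a⁻¹ = a⁻¹ * k := (Subgroup.mem_center_iff.mp hk a⁻¹).symm
  rw [commutatorElement_def, commutatorElement_def, mul_inv_rev]
  calc a * (b * k) * a⁻¹ * (k⁻¹ * b⁻¹) = a * b * (k * a⁻¹) * k⁻¹ * b⁻¹ := by group
    _ = a * b * (a⁻¹ * k) * k⁻¹ * b⁻¹ := by rw [c]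
    _ = a * b * a⁻¹ * b⁻¹ := by group

theorem comm_mul_central (a b k1 k2 : Γ) (h1 : k1 ∈ Subgroup.center Γ)
    (h2 : k2 ∈ Subgroup.center Γ) : ⁅a * k1, b * k2⁆ = ⁅a, b⁆ := by
  rw [comm_mul_central_left _ _ _ h1, comm_mul_central_right _ _ _ h2]

/-- the commutator of lifts of two elements whose commutator is central is invariant under
conjugation of the pair in the quotient -/
theorem comm_fusion (σ : Γ →* G) (hker : σ.ker ≤ Subgroup.center Γ) (g h g' h' C : Γ)
    (hg : σ (C⁻¹ * g * C) = σ g') (hh : σ (C⁻¹ * h * C) = σ h')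
    (hc : ⁅g, h⁆ ∈ Subgroup.center Γ) : ⁅g', h'⁆ = ⁅g, h⁆ := by
  have k1 : (C⁻¹ * g * C)⁻¹ * g' ∈ Subgroup.center Γ := by
    apply hker
    rw [MonoidHom.mem_ker, map_mul, map_inv, hg, inv_mul_cancel]
  have k2 : (C⁻¹ * h * C)⁻¹ * h' ∈ Subgroup.center Γ := by
    apply hker
    rw [MonoidHom.mem_ker, map_mul, map_inv, hh, inv_mul_cancel]
  have e1 : g' = C⁻¹ * g * C * ((C⁻¹ * g * C)⁻¹ * g') := by group
  have e2 : h' = C⁻¹ * h * C * ((C⁻¹ * h * C)⁻¹ * h') := by group
  rw [e1, e2, comm_mul_central _ _ _ _ k1 k2]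
  have e3 : ⁅C⁻¹ * g * C, C⁻¹ * h * C⁆ = C⁻¹ * ⁅g, h⁆ * C := by
    rw [commutatorElement_def, commutatorElement_def]
    group
  rw [e3, mul_assoc, ← (Subgroup.mem_center_iff.mp hc C), ← mul_assoc, inv_mul_cancel, one_mul]

/-- the word of a commutator -/
def commW (u v : List ℕ) : List ℕ := u ++ v ++ invW u ++ invW v

theorem ev_commW (X : ℕ → Γ) (u v : List ℕ) : ev X (commW u v) = ⁅ev X u, ev X v⁆ := by
  unfold commW
  rw [ev_append, ev_append, ev_append, ev_invW, ev_invW, commutatorElement_def]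

end Comm

end Cfsg.Agent.Helper7.TiMult
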