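import Cfsg.Agent.Helper7.TiMult.q3Node0
import Cfsg.Agent.Helper7.TiMult.q3Node1
import Cfsg.Agent.Helper7.TiMult.q3Node2
import Cfsg.Agent.Helper7.TiMult.q3Node3
import Cfsg.Agent.Helper7.TiMult.q3Node4
import Cfsg.Agent.Helper7.TiMult.q3Node5
import Cfsg.Agent.Helper7.TiMult.q3Node6
import Cfsg.Agent.Helper7.TiMult.q3Node7
import Cfsg.Agent.Helper7.TiMult.q3Node8
import Cfsg.Agent.Helper7.TiMult.q3Node9
import Cfsg.Agent.Helper7.TiMult.q3Node10
import Cfsg.Agent.Helper7.TiMult.q3ChkAll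
import Cfsg.Agent.Helper7.TiMult.Fusion
import Cfsg.Agent.Helper7.ModTC.LinGen
import Cfsg.Agent.Helper7.TiMult.q3Mem0
import Cfsg.Agent.Helper7.TiMult.q3Mem1

set_option autoImplicit false
set_option maxRecDepth 1000000
set_option maxHeartbeats 0

namespace Cfsg.Agent.Helper7.TiMult

open Cfsg.Agent.Helper56 Cfsg.Agent.Helper56.PermW Cfsg.Agent.Helper56.Tits
open Cfsg.Agent.Helper7.ModTC

universe u

theorem q3_node : ∀ c < q3C.N, nodeChk q3Cs 2 q3Bp q3Wk q3C q3KeyT c = true := by
  intro c hc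
  have hc' : c < 5616 := hc
  rcases Nat.lt_or_ge c 512 with h0 | h0
  · exact nodeRange_spec q3_node0 (by omega) (by omega)
  rcases Nat.lt_or_ge c 1024 with h1 | h1
  · exact nodeRange_spec q3_node1 (by omega) (by omega)
  rcases Nat.lt_or_ge c 1536 with h2 | h2
  · exact nodeRange_spec q3_node2 (by omega) (by omega)
  rcases Nat.lt_or_ge c 2048 with h3 | h3
  · exact nodeRange_spec q3_node3 (by omega) (by omega)
  rcases Nat.lt_or_ge c 2560 with h4 | h4
  · exact nodeRange_spec q3_node4 (by omega) (by omega)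
  rcases Nat.lt_or_ge c 3072 with h5 | h5
  · exact nodeRange_spec q3_node5 (by omega) (by omega)
  rcases Nat.lt_or_ge c 3584 with h6 | h6
  · exact nodeRange_spec q3_node6 (by omega) (by omega)
  rcases Nat.lt_or_ge c 4096 with h7 | h7
  · exact nodeRange_spec q3_node7 (by omega) (by omega)
  rcases Nat.lt_or_ge c 4608 with h8 | h8
  · exact nodeRange_spec q3_node8 (by omega) (by omega)
  rcases Nat.lt_or_ge c 5120 with h9 | h9
  · exact nodeRange_spec q3_node9 (by omega) (by omega)
  exact nodeRange_spec q3_node10 (by omega) (by omega)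

theorem q3_valid : allValid 12 4095 1755 q3Cs q3Cis = true := by decide +kernel

theorem q3_pair : pairChk q3Cs q3Cis 2 = true := by decide +kernel

theorem q3_rel : relChk q3Cs 0 2 3 q3Rels q3Zws = true := by decide +kernel

theorem q3_sort : sortChk q3KeyT q3Wk q3SigT q3Ws 5616 = true := by decide +kernel

theorem q3_mem : ∀ i < 2, gn q3Cs q3Cis (2 * i) ∈ T0 := by
  intro i hi
  have hl : q3Cs.length = 4 := len_cs q3_pair
  interval_cases i
  · exact mem_of_memChk2 q3_xvalid q3_xmem q3_valid (by rw [hl]; norm_num) q3_mem0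
  · exact mem_of_memChk2 q3_xvalid q3_xmem q3_valid (by rw [hl]; norm_num) q3_mem1

theorem q3_bp : ∀ p ∈ q3Bp, p < 1755 := by decide

def q3Pairs : List (ℕ × ℕ) := [(0, 358), (1, 971), (4, 5578)]

def q3U : List (List ℤ) := [[1, 0, 0], [0, -1, 0], [0, 0, -1]]

theorem q3_lin : ∀ j < 3, lincomb (q3U.getD j []) (relList q3C 999999 q3Pairs) = padUnit 3 j := by
  decide +kernel

/-- the `3200`-th powers of the elements of the kernel of a finite stem extension of the Tits group
are trivial (labelled coset table of a subgroup `L₃(3)` of order `5616`) -/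
theorem q3_main {Γ : Type u} [Group Γ] [Finite Γ] (σ : Γ →* ↥T0)
    (hσ : Cfsg.IsStemExtension σ) : ∀ g ∈ σ.ker, g ^ 3200 = 1 := by
  obtain ⟨hcard, X, z, -, hzker, hzm, hrel, -, hker⟩ :=
    glue_main σ hσ q3C 0 2 3 q3Rels q3Zws q3Cs q3Cis q3Bp q3Wk q3KeyT q3SigT
      q3Ws q3_mem q3_valid q3_pair q3_bp rfl rfl rfl (by norm_num) q3_rel q3_node q3_sort
      (by decide +kernel) (by decide) q3_chk
  have hz : ∀ j, z j ∈ Subgroup.center Γ := fun j => hσ.2.1 (hzker j)
  have hidx : (Subgroup.closure (Set.range (xOf q3Cs q3Cis 2 q3_mem))).index = 3200 := by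
    have h2 := Subgroup.card_mul_index (Subgroup.closure (Set.range (xOf q3Cs q3Cis 2 q3_mem)))
    rw [hcard, card_T0] at h2
    have : q3C.N = 5616 := rfl
    rw [this] at h2
    omega
  intro g hg
  obtain ⟨w, hw, -⟩ := hker g hg
  rw [hidx] at hw
  rw [hw]
  exact all_one hz 3 hzm _ (relList_spec (C := q3C) (bd := 999999) (pairs := q3Pairs) hrel)
    q3U q3_lin w

end Cfsg.Agent.Helper7.TiMult
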