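import Cfsg.Agent.Helper7.TiMult.q5XY
import Cfsg.Agent.Helper7.TiMult.q5GData

set_option autoImplicit false
set_option maxRecDepth 1000000
set_option maxHeartbeats 0

namespace Cfsg.Agent.Helper7.TiMult

open Cfsg.Agent.Helper56 Cfsg.Agent.Helper56.PermW Cfsg.Agent.Helper56.Tits

theorem q5_mem0 : memChk2 q5Xs q5Cs 0 (q5Mem.getD 0 []) = true := by decide +kernel

end Cfsg.Agent.Helper7.TiMult
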