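import Cfsg.Agent.Helper7.TiMult.q5Node0
import Cfsg.Agent.Helper7.TiMult.q5Node1
import Cfsg.Agent.Helper7.TiMult.q5Node2
import Cfsg.Agent.Helper7.TiMult.q5Node3
import Cfsg.Agent.Helper7.TiMult.q5Node4
import Cfsg.Agent.Helper7.TiMult.q5Node5
import Cfsg.Agent.Helper7.TiMult.q5Node6
import Cfsg.Agent.Helper7.TiMult.q5Node7
import Cfsg.Agent.Helper7.TiMult.q5Node8
import Cfsg.Agent.Helper7.TiMult.q5Node9
import Cfsg.Agent.Helper7.TiMult.q5Node10
import Cfsg.Agent.Helper7.TiMult.q5Node11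
import Cfsg.Agent.Helper7.TiMult.q5Node12
import Cfsg.Agent.Helper7.TiMult.q5Node13
import Cfsg.Agent.Helper7.TiMult.q5Node14
import Cfsg.Agent.Helper7.TiMult.q5Node15
import Cfsg.Agent.Helper7.TiMult.q5ChkAll
import Cfsg.Agent.Helper7.TiMult.Fusion
import Cfsg.Agent.Helper7.ModTC.LinGen
import Cfsg.Agent.Helper7.TiMult.q5Mem0
import Cfsg.Agent.Helper7.TiMult.q5Mem1

set_option autoImplicit false
set_option maxRecDepth 1000000
set_option maxHeartbeats 0

namespace Cfsg.Agent.Helper7.TiMult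

open Cfsg.Agent.Helper56 Cfsg.Agent.Helper56.PermW Cfsg.Agent.Helper56.Tits
open Cfsg.Agent.Helper7.ModTC

universe u

theorem q5_node : ∀ c < q5C.N, nodeChk q5Cs 2 q5Bp q5Wk q5C q5KeyT c = true := by
  intro c hc
  have hc' : c < 7800 := hc
  rcases Nat.lt_or_ge c 512 with h0 | h0
  · exact nodeRange_spec q5_node0 (by omega) (by omega)
  rcases Nat.lt_or_ge c 1024 with h1 | h1
  · exact nodeRange_spec q5_node1 (by omega) (by omega)
  rcases Nat.lt_or_ge c 1536 with h2 | h2
  · exact nodeRange_spec q5_node2 (by omega) (by omega)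
  rcases Nat.lt_or_ge c 2048 with h3 | h3
  · exact nodeRange_spec q5_node3 (by omega) (by omega)
  rcases Nat.lt_or_ge c 2560 with h4 | h4
  · exact nodeRange_spec q5_node4 (by omega) (by omega)
  rcases Nat.lt_or_ge c 3072 with h5 | h5
  · exact nodeRange_spec q5_node5 (by omega) (by omega)
  rcases Nat.lt_or_ge c 3584 with h6 | h6
  · exact nodeRange_spec q5_node6 (by omega) (by omega)
  rcases Nat.lt_or_ge c 4096 with h7 | h7
  · exact nodeRange_spec q5_node7 (by omega) (by omega)
  rcases Nat.lt_or_ge c 4608 with h8 | h8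
  · exact nodeRange_spec q5_node8 (by omega) (by omega)
  rcases Nat.lt_or_ge c 5120 with h9 | h9
  · exact nodeRange_spec q5_node9 (by omega) (by omega)
  rcases Nat.lt_or_ge c 5632 with h10 | h10
  · exact nodeRange_spec q5_node10 (by omega) (by omega)
  rcases Nat.lt_or_ge c 6144 with h11 | h11
  · exact nodeRange_spec q5_node11 (by omega) (by omega)
  rcases Nat.lt_or_ge c 6656 with h12 | h12
  · exact nodeRange_spec q5_node12 (by omega) (by omega)
  rcases Nat.lt_or_ge c 7168 with h13 | h13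
  · exact nodeRange_spec q5_node13 (by omega) (by omega)
  rcases Nat.lt_or_ge c 7680 with h14 | h14
  · exact nodeRange_spec q5_node14 (by omega) (by omega)
  exact nodeRange_spec q5_node15 (by omega) (by omega)

theorem q5_valid : allValid 12 4095 1755 q5Cs q5Cis = true := by decide +kernel

theorem q5_pair : pairChk q5Cs q5Cis 2 = true := by decide +kernel

theorem q5_rel : relChk q5Cs 0 2 3 q5Rels q5Zws = true := by decide +kernel

theorem q5_sort : sortChk q5KeyT q5Wk q5SigT q5Ws 7800 = true := by decide +kernel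

theorem q5_mem : ∀ i < 2, gn q5Cs q5Cis (2 * i) ∈ T0 := by
  intro i hi
  have hl : q5Cs.length = 4 := len_cs q5_pair
  interval_cases i
  · exact mem_of_memChk2 q5_xvalid q5_xmem q5_valid (by rw [hl]; norm_num) q5_mem0
  · exact mem_of_memChk2 q5_xvalid q5_xmem q5_valid (by rw [hl]; norm_num) q5_mem1

theorem q5_bp : ∀ p ∈ q5Bp, p < 1755 := by decide

def q5Pairs : List (ℕ × ℕ) := [(0, 477), (0, 1148), (1, 440)]

def q5U : List (List ℤ) := [[0, 1, 0], [0, 0, 0], [-1, 0, 0]]

def q5U0 : List ℤ := [0, 0, -1]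

def q5Eps : List ℤ := [0, 1, 0]

theorem q5_lin0 : lincomb q5U0 (relList q5C 999999 q5Pairs) = vsmul 2 (padUnit 3 1) := by
  decide +kernel

theorem q5_lin : ∀ j < 3, lincomb (q5U.getD j []) (relList q5C 999999 q5Pairs) =
    vadd (padUnit 3 j) (vsmul (-(q5Eps.getD j 0)) (padUnit 3 1)) := by
  decide +kernel

/-- the `4608`-th powers of the elements of the kernel of a finite stem extension of the Tits group
are trivial (labelled coset table of a subgroup `L₂(25)` of order `7800`, whose multiplier has order `2`) -/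
theorem q5_main {Γ : Type u} [Group Γ] [Finite Γ] (σ : Γ →* ↥T0)
    (hσ : Cfsg.IsStemExtension σ) : ∀ g ∈ σ.ker, g ^ 4608 = 1 := by
  obtain ⟨hcard, X, z, -, hzker, hzm, hrel, -, hker⟩ :=
    glue_main σ hσ q5C 0 2 3 q5Rels q5Zws q5Cs q5Cis q5Bp q5Wk q5KeyT q5SigT
      q5Ws q5_mem q5_valid q5_pair q5_bp rfl rfl rfl (by norm_num) q5_rel q5_node q5_sort
      (by decide +kernel) (by decide) q5_chk
  have hz : ∀ j, z j ∈ Subgroup.center Γ := fun j => hσ.2.1 (hzker j)
  have hidx : (Subgroup.closure (Set.range (xOf q5Cs q5Cis 2 q5_mem))).index = 2304 := by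
    have h2 := Subgroup.card_mul_index (Subgroup.closure (Set.range (xOf q5Cs q5Cis 2 q5_mem)))
    rw [hcard, card_T0] at h2
    have : q5C.N = 7800 := rfl
    rw [this] at h2
    omega
  obtain ⟨hsq, hall⟩ := two_case hz 3 1 hzm _
    (relList_spec (C := q5C) (bd := 999999) (pairs := q5Pairs) hrel) q5Eps q5U0 q5U
    q5_lin0 q5_lin
  intro g hg
  obtain ⟨w, hw, -⟩ := hker g hg
  rw [hidx] at hw
  rw [show 4608 = 2304 * 2 by norm_num, pow_mul, hw]
  rcases hall w with h | h
  · rw [h, one_pow]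
  · rw [h, hsq]

end Cfsg.Agent.Helper7.TiMult
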