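import Cfsg.Agent.Helper7.TiMult.p1Main
import Cfsg.Agent.Helper7.TiMult.q3Main
import Cfsg.Agent.Helper7.TiMult.q5Main
import Cfsg.Agent.Helper56.TiSimple
import Cfsg.Agent.Helper56.CommIdx
import Cfsg.Agent.S1074
import Cfsg.Agent.Helper96.StemBound
import Cfsg.Prelude.Def_KGroupFacts

/-!
# The Schur multiplier of the Tits group is trivial

Every finite stem extension of helper56's permutation model `T0` of the Tits group `²F₄(2)′`
(order `2¹¹·3³·5²·13`) is an isomorphism: the elements `g` of the kernel satisfy `g ^ 1755 = 1`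
(centraliser of an involution, of odd index `1755`, and fusion), `g ^ 3200 = 1` (subgroup `L₃(3)`)
and `g ^ 4608 = 1` (subgroup `L₂(25)`), and `gcd (1755, 3200, 4608) = 1`. The result is
transported to `Cfsg.Lie.TitsGroup`, the commutator subgroup of `²F₄(2)`.
-/

set_option autoImplicit false

namespace Cfsg.Agent.Helper7.TiMult

open Cfsg Cfsg.Lie Cfsg.Agent.Helper56 Cfsg.Agent.Helper56.Tits

universe u

/-- the kernel of a finite stem extension of `T0` is trivial -/
theorem ker_eq_bot_T0 {Γ : Type u} [Group Γ] [Finite Γ] (σ : Γ →* ↥T0)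
    (hσ : Cfsg.IsStemExtension σ) : σ.ker = ⊥ := by
  rw [Subgroup.eq_bot_iff_forall]
  intro g hg
  have d1 : orderOf g ∣ 1755 := orderOf_dvd_of_pow_eq_one (p1_main σ hσ g hg)
  have d2 : orderOf g ∣ 3200 := orderOf_dvd_of_pow_eq_one (q3_main σ hσ g hg)
  have d3 : orderOf g ∣ 4608 := orderOf_dvd_of_pow_eq_one (q5_main σ hσ g hg)
  have d : orderOf g ∣ 1 := by
    have e1 := Nat.dvd_gcd (Nat.dvd_gcd d1 d2) d3
    have : Nat.gcd (Nat.gcd 1755 3200) 4608 = 1 := by norm_num
    rwa [this] at e1
  exact orderOf_eq_one_iff.mp (Nat.dvd_one.mp d)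

/-- the commutator subgroup of `²F₄(2)` is helper56's simple subgroup `TS` -/
theorem commutator_twisted_eq_TS : commutator ↥(twistedF4 (ZMod 2) 1) = TS := by
  have h1 : Nat.card ↥TS = 17971200 := by rw [card_TS]; norm_num
  have h2 : Nat.card ↥(twistedF4 (ZMod 2) 1) = 35942400 := by
    rw [Cfsg.Agent.S1074.card_twisted]; norm_num
  have hidx : TS.index = 2 := by
    have h := TS.card_mul_index
    rw [h1, h2] at h
    omega
  have hn : ¬ (17971200 : ℕ).Prime := by norm_num
  exact commutator_eq_of_simple_index_two TS simple_TS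
    (not_commutative_of_simple_card (T := ↥TS) simple_TS h1 hn) hidx

/-- the Tits group is isomorphic to the permutation group `T0` -/
noncomputable def titsEquivT0 : Cfsg.Lie.TitsGroup ≃* ↥T0 :=
  (MulEquiv.subgroupCongr commutator_twisted_eq_TS).trans (equivTS.trans equivTG)

theorem finite_Tits : Finite Cfsg.Lie.TitsGroup := by
  have : Nat.card Cfsg.Lie.TitsGroup = 17971200 := by
    rw [Nat.card_congr titsEquivT0.toEquiv]
    exact card_T0
  exact Nat.finite_of_card_ne_zero (by rw [this]; norm_num)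

/-- the kernel of a finite stem extension of the Tits group is trivial -/
theorem ker_eq_bot_Tits {Γ : Type} [Group Γ] [Finite Γ] (σ : Γ →* Cfsg.Lie.TitsGroup)
    (hσ : Cfsg.IsStemExtension σ) : σ.ker = ⊥ := by
  have h := ker_eq_bot_T0 (titsEquivT0.toMonoidHom.comp σ)
    (Cfsg.Agent.Helper96.StemBound.isStemExtension_equiv_comp σ hσ titsEquivT0)
  rwa [Cfsg.Agent.Helper96.StemBound.ker_equiv_comp] at h

/-- a finite group all of whose finite stem extensions are isomorphisms has trivial Schur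
multiplier -/
theorem multiplier_one_of_ker_trivial (G : Type) [Group G] [Finite G]
    (h : ∀ (Γ : Type) [Group Γ] [Finite Γ] (σ : Γ →* G), Cfsg.IsStemExtension σ → σ.ker = ⊥) :
    Cfsg.HasCyclicSchurMultiplier G 1 := by
  refine ⟨⟨G, inferInstance, inferInstance, MonoidHom.id G, ?_, ?_⟩, ?_⟩
  · refine ⟨Function.surjective_id, ?_, ?_⟩
    · rw [MonoidHom.ker_id]; exact bot_le
    · rw [MonoidHom.ker_id]; exact bot_le
  · rw [MonoidHom.ker_id]
    exact ⟨MulEquiv.ofUnique⟩
  · intro Γ _ _ σ hσ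
    refine ⟨1, ?_⟩
    rintro ⟨z, hz⟩
    refine ⟨1, ?_⟩
    apply Subtype.ext
    have hz' := hz
    rw [h Γ σ hσ, Subgroup.mem_bot] at hz'
    exact hz'.symm

end Cfsg.Agent.Helper7.TiMult
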