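import Cfsg.Agent.Helper56.TiMain
import Cfsg.Agent.Helper98.J3Grp
import Cfsg.Agent.Helper7.ModTC.StemGen

/-!
# Labelled coset tables over the permutation model `T0` of the Tits group

The letters of a subgroup of helper56's permutation group `T0` on `1755` points are given by a
list `cs` of packed codes (`cis` is the list of the codes of the inverses; the letter `2 * i + 1`
is the inverse of the letter `2 * i`). The hypotheses of `ModTC.stem_gen` are decided by
evaluating words pointwise: a word is trivial iff it fixes all points, and the elements of the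
nodes are pairwise distinct because the images of a few points under them have distinct keys.
-/

set_option autoImplicit false
set_option maxRecDepth 1000000

namespace Cfsg.Agent.Helper7.TiMult

open Cfsg.Agent.Helper56 Cfsg.Agent.Helper56.PermW Cfsg.Agent.Helper56.Tits
open Cfsg.Agent.Helper7.ModTC

universe u

/-- field extraction from a list of packed chunks with `512` entries each -/
def tfld (T : List ℕ) (w i : ℕ) : ℕ := ((T.getD (i / 512) 0) >>> (w * (i % 512))) % 2 ^ w

/-- the permutation of a letter -/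
abbrev gn (cs cis : List ℕ) : ℕ → Equiv.Perm (Fin 1755) := genOf 12 4095 1755 cs cis

/-- the two lists of codes are swapped at paired letters -/
def pairChk (cs cis : List ℕ) (k : ℕ) : Bool :=
  decide (cs.length = 2 * k) && decide (cis.length = 2 * k) &&
  (List.range k).all fun i =>
    (cs.getD (2 * i + 1) 0 == cis.getD (2 * i) 0) && (cis.getD (2 * i + 1) 0 == cs.getD (2 * i) 0)

/-- the word fixes all points -/
def fixChk (cs : List ℕ) (w : List ℕ) : Bool :=
  (List.range 1755).all fun p => appWord 12 4095 cs w p == p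

/-- the relators are trivial, and the words `zws i` give the generators -/
def relChk (cs : List ℕ) (a k m : ℕ) (relsL zwsL : List (List ℕ)) : Bool :=
  ((List.range m).all fun b => lettersLt (2 * k) (relsL.getD b []) &&
    fixChk cs (relsL.getD b [])) &&
  ((List.range k).all fun i => lettersLt (2 * k) (zwsL.getD i []) &&
    fixChk cs ((2 * i + 1) :: zwsL.getD i []) &&
    (if i < a then zwsL.getD i [] == [2 * i] else Cert.isZero (esum (zwsL.getD i []))))

/-- the key of a word: the images of the points of `bp` -/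
def keyOf (cs : List ℕ) (bp : List ℕ) (w : List ℕ) : ℕ :=
  bp.foldl (fun acc p => acc * 4096 + appWord 12 4095 cs w p) 0

/-- the key of the element of a node -/
def nodeChk (cs : List ℕ) (k : ℕ) (bp : List ℕ) (wk : ℕ) (C : Cert) (keyT : List ℕ) (c : ℕ) :
    Bool :=
  lettersLt (2 * k) (C.tw c) && (tfld keyT wk c == keyOf cs bp (C.tw c))

def nodeRange (cs : List ℕ) (k : ℕ) (bp : List ℕ) (wk : ℕ) (C : Cert) (keyT : List ℕ)
    (lo len : ℕ) : Bool :=
  (List.range len).all fun i => nodeChk cs k bp wk C keyT (lo + i)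

theorem nodeRange_spec {cs : List ℕ} {k : ℕ} {bp : List ℕ} {wk : ℕ} {C : Cert} {keyT : List ℕ}
    {lo len : ℕ}
    (h : nodeRange cs k bp wk C keyT lo len = true) {c : ℕ} (h1 : lo ≤ c) (h2 : c < lo + len) :
    nodeChk cs k bp wk C keyT c = true := by
  simp only [nodeRange, List.all_eq_true, List.mem_range] at h
  have := h (c - lo) (by omega)
  rwa [show lo + (c - lo) = c by omega] at this

/-- the keys are strictly increasing along the sorting table -/
def sortChk (keyT : List ℕ) (wk : ℕ) (sigT : List ℕ) (ws n : ℕ) : Bool :=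
  (List.range (n - 1)).all fun j =>
    decide (tfld sigT ws j < n) && decide (tfld sigT ws (j + 1) < n) &&
      decide (tfld keyT wk (tfld sigT ws j) < tfld keyT wk (tfld sigT ws (j + 1)))

section Perm

variable {cs cis : List ℕ} {k : ℕ}

theorem gn_inv (hv : allValid 12 4095 1755 cs cis = true) (hp : pairChk cs cis k = true)
    {i : ℕ} (hi : i < k) : gn cs cis (2 * i + 1) = (gn cs cis (2 * i))⁻¹ := by
  simp only [pairChk, Bool.and_eq_true, decide_eq_true_eq, List.all_eq_true, List.mem_range,
    beq_iff_eq] at hp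
  obtain ⟨⟨hl1, hl2⟩, hp⟩ := hp
  obtain ⟨e1, e2⟩ := hp i hi
  ext p
  rw [genOf_apply hv (2 * i + 1) (by omega), genOf_inv_apply hv (2 * i) (by omega), e1]

theorem evL_gn (hv : allValid 12 4095 1755 cs cis = true) (hp : pairChk cs cis k = true)
    {l : ℕ} (hl : l < 2 * k) : evL (fun i => gn cs cis (2 * i)) l = gn cs cis l := by
  unfold evL
  rcases Nat.mod_two_eq_zero_or_one l with h | h
  · rw [if_pos h]
    have e : 2 * (l / 2) = l := by omega
    show gn cs cis (2 * (l / 2)) = gn cs cis l
    rw [e]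
  · rw [if_neg (by omega)]
    show (gn cs cis (2 * (l / 2)))⁻¹ = gn cs cis l
    rw [← gn_inv hv hp (show l / 2 < k by omega)]
    have e : 2 * (l / 2) + 1 = l := by omega
    rw [e]

theorem ev_gn (hv : allValid 12 4095 1755 cs cis = true) (hp : pairChk cs cis k = true)
    {w : List ℕ} (hw : ∀ l ∈ w, l < 2 * k) :
    ev (fun i => gn cs cis (2 * i)) w = wprod (gn cs cis) w := by
  induction w with
  | nil => rw [ev_nil, wprod_nil]
  | cons l w ih =>
    rw [ev_cons, wprod_cons, ih (fun l' h' => hw l' (by simp [h'])), evL_gn hv hp (hw l (by simp))]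

theorem len_cs (hp : pairChk cs cis k = true) : cs.length = 2 * k := by
  simp only [pairChk, Bool.and_eq_true, decide_eq_true_eq] at hp
  exact hp.1.1

theorem wprod_val (hv : allValid 12 4095 1755 cs cis = true) (hp : pairChk cs cis k = true)
    {w : List ℕ} (hw : ∀ l ∈ w, l < 2 * k) (p : Fin 1755) :
    ((wprod (gn cs cis) w) p).val = appWord 12 4095 cs w p.val :=
  wprod_apply hv w (fun j hj => by rw [len_cs hp]; exact hw j hj) p

theorem wprod_eq_one_of_fix (hv : allValid 12 4095 1755 cs cis = true)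
    (hp : pairChk cs cis k = true) {w : List ℕ} (hw : lettersLt (2 * k) w = true)
    (hf : fixChk cs w = true) : wprod (gn cs cis) w = 1 := by
  ext p
  rw [wprod_val hv hp (lettersLt_spec hw) p]
  simp only [fixChk, List.all_eq_true, List.mem_range, beq_iff_eq] at hf
  rw [hf p.val p.isLt]
  rfl

theorem keyOf_congr (hv : allValid 12 4095 1755 cs cis = true) (hp : pairChk cs cis k = true)
    {bp : List ℕ} (hbp : ∀ p ∈ bp, p < 1755) {w w' : List ℕ} (hw : ∀ l ∈ w, l < 2 * k)
    (hw' : ∀ l ∈ w', l < 2 * k) (e : wprod (gn cs cis) w = wprod (gn cs cis) w') :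
    keyOf cs bp w = keyOf cs bp w' := by
  unfold keyOf
  suffices h : ∀ acc, bp.foldl (fun acc p => acc * 4096 + appWord 12 4095 cs w p) acc =
      bp.foldl (fun acc p => acc * 4096 + appWord 12 4095 cs w' p) acc from h 0
  induction bp with
  | nil => intro acc; rfl
  | cons p bp ih =>
    intro acc
    rw [List.foldl_cons, List.foldl_cons]
    have hp' : p < 1755 := hbp p (by simp)
    have e1 := wprod_val hv hp hw ⟨p, hp'⟩
    have e2 := wprod_val hv hp hw' ⟨p, hp'⟩
    rw [e] at e1
    rw [← e1, ← e2]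
    exact ih (fun q hq => hbp q (by simp [hq])) _

end Perm

section Main

variable {cs cis : List ℕ} {k : ℕ}

/-- the generators of the subgroup of `T0` -/
noncomputable def xOf (cs cis : List ℕ) (k : ℕ) (hmem : ∀ i < k, gn cs cis (2 * i) ∈ T0)
    (i : ℕ) : ↥T0 :=
  if h : i < k then ⟨gn cs cis (2 * i), hmem i h⟩ else 1

theorem coe_evL_xOf (hmem : ∀ i < k, gn cs cis (2 * i) ∈ T0) {l : ℕ} (hl : l < 2 * k) :
    ((evL (xOf cs cis k hmem) l : ↥T0) : Equiv.Perm (Fin 1755)) =
      evL (fun i => gn cs cis (2 * i)) l := by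
  unfold evL xOf
  rw [dif_pos (show l / 2 < k by omega)]
  split_ifs <;> rfl

theorem coe_ev_xOf (hmem : ∀ i < k, gn cs cis (2 * i) ∈ T0) {w : List ℕ}
    (hw : ∀ l ∈ w, l < 2 * k) :
    ((ev (xOf cs cis k hmem) w : ↥T0) : Equiv.Perm (Fin 1755)) =
      ev (fun i => gn cs cis (2 * i)) w := by
  induction w with
  | nil => rfl
  | cons l w ih =>
    rw [ev_cons, ev_cons, Subgroup.coe_mul, ih (fun l' h' => hw l' (by simp [h'])),
      coe_evL_xOf hmem (hw l (by simp))]

theorem coe_ev_wprod (hv : allValid 12 4095 1755 cs cis = true) (hp : pairChk cs cis k = true)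
    (hmem : ∀ i < k, gn cs cis (2 * i) ∈ T0) {w : List ℕ} (hw : ∀ l ∈ w, l < 2 * k) :
    ((ev (xOf cs cis k hmem) w : ↥T0) : Equiv.Perm (Fin 1755)) = wprod (gn cs cis) w := by
  rw [coe_ev_xOf hmem hw, ev_gn hv hp hw]

theorem ev_eq_one_of_fix (hv : allValid 12 4095 1755 cs cis = true)
    (hp : pairChk cs cis k = true) (hmem : ∀ i < k, gn cs cis (2 * i) ∈ T0) {w : List ℕ}
    (hw : lettersLt (2 * k) w = true) (hf : fixChk cs w = true) :
    ev (xOf cs cis k hmem) w = 1 := by
  apply Subtype.ext
  rw [coe_ev_wprod hv hp hmem (lettersLt_spec hw), wprod_eq_one_of_fix hv hp hw hf]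
  rfl

theorem glue_main {Γ : Type u} [Group Γ] [Finite Γ] (σ : Γ →* ↥T0)
    (hσ : Cfsg.IsStemExtension σ) (C : Cert) (a' k m : ℕ) (relsL zwsL : List (List ℕ))
    (cs cis : List ℕ) (bp : List ℕ) (wk : ℕ) (keyT sigT : List ℕ) (ws : ℕ)
    (hmem : ∀ i < k, gn cs cis (2 * i) ∈ T0)
    (hv : allValid 12 4095 1755 cs cis = true) (hp : pairChk cs cis k = true)
    (hbp : ∀ p ∈ bp, p < 1755)
    (hnl : C.nl = 2 * k)
    (hbase : C.base = mkBase m k (fun b => relsL.getD b []) (fun i => zwsL.getD i []))
    (hzl : zwsL.length = k) (hak : a' ≤ k)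
    (hrel : relChk cs a' k m relsL zwsL = true)
    (hnode : ∀ c < C.N, nodeChk cs k bp wk C keyT c = true)
    (hsort : sortChk keyT wk sigT ws C.N = true)
    (htw0 : C.tw 0 = []) (hN : 0 < C.N)
    (hchk : ∀ c l, c < C.N → l < C.nl → C.chkEdge c l = true) :
    Nat.card (Subgroup.closure (Set.range (xOf cs cis k hmem))) = C.N ∧
    ∃ X z : ℕ → Γ, (∀ i, σ (X i) = xOf cs cis k hmem i) ∧ (∀ j, z j ∈ σ.ker) ∧
      (∀ j, m ≤ j → z j = 1) ∧
      (∀ bd b s ρ, C.relVec bd b s = some ρ → zpv z 0 ρ = 1) ∧
      (∀ bd w v', C.walk bd 0 w = some (0, v') → ev X w = zpv z 0 v') ∧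
      ∀ g ∈ σ.ker, ∃ w : List ℤ,
        g ^ (Subgroup.closure (Set.range (xOf cs cis k hmem))).index = zpv z 0 w ∧
          ∀ i < a', trk (fun b => relsL.getD b []) i w = 0 := by
  simp only [relChk, Bool.and_eq_true, List.all_eq_true, List.mem_range] at hrel
  obtain ⟨hr1, hr2⟩ := hrel
  have hkey : ∀ c < C.N, (∀ l ∈ C.tw c, l < 2 * k) ∧
      tfld keyT wk c = keyOf cs bp (C.tw c) := by
    intro c hc
    have := hnode c hc
    simp only [nodeChk, Bool.and_eq_true, beq_iff_eq] at this
    exact ⟨lettersLt_spec this.1, this.2⟩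
  have hinjK : ∀ i j, i < C.N → j < C.N → tfld keyT wk i = tfld keyT wk j → i = j := by
    intro i j hi hj e
    refine Cfsg.Agent.Helper98.J3.inj_of_sorted (fun i => tfld keyT wk i)
      (fun j => tfld sigT ws j) C.N ?_ hi hj e
    intro j hj
    simp only [sortChk, List.all_eq_true, List.mem_range, Bool.and_eq_true,
      decide_eq_true_eq] at hsort
    obtain ⟨⟨h1, h2⟩, h3⟩ := hsort j (by omega)
    exact ⟨h1, h2, h3⟩
  refine stem_gen σ hσ C a' k m (fun b => relsL.getD b []) (fun i => zwsL.getD i [])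
    (xOf cs cis k hmem) hnl hbase ?_ ?_ ?_ ?_ ?_ ?_ ?_ htw0 hN hchk
  · intro i hi
    unfold xOf
    rw [dif_neg (by omega)]
  · intro i hi
    exact List.getD_eq_default _ _ (by omega)
  · intro b hb'
    have := hr1 b hb'
    exact ev_eq_one_of_fix hv hp hmem this.1 this.2
  · intro i hi
    obtain ⟨⟨h1, h2⟩, -⟩ := hr2 i hi
    have h3 : lettersLt (2 * k) ((2 * i + 1) :: zwsL.getD i []) = true := by
      simp only [lettersLt, List.all_cons, Bool.and_eq_true, decide_eq_true_eq]
      exact ⟨by omega, by simpa [lettersLt] using h1⟩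
    have h4 := ev_eq_one_of_fix hv hp hmem h3 h2
    rw [ev_cons] at h4
    have h5 : evL (xOf cs cis k hmem) (2 * i + 1) = (xOf cs cis k hmem i)⁻¹ := by
      unfold evL
      rw [if_neg (by omega)]
      congr 2
      omega
    rw [h5] at h4
    exact (inv_mul_eq_one.mp h4).symm
  · intro i hi
    have := (hr2 i (by omega)).2
    rw [if_pos hi] at this
    simpa using this
  · intro i hai hi
    have := (hr2 i hi).2
    rw [if_neg (by omega)] at this
    exact this
  · intro c hc c' hc' e
    obtain ⟨hl, hk1⟩ := hkey c hc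
    obtain ⟨hl', hk2⟩ := hkey c' hc'
    have e' : wprod (gn cs cis) (C.tw c) = wprod (gn cs cis) (C.tw c') := by
      rw [← coe_ev_wprod hv hp hmem hl, ← coe_ev_wprod hv hp hmem hl', e]
    have e4 : tfld keyT wk c = tfld keyT wk c' := by
      rw [hk1, hk2]
      exact keyOf_congr hv hp hbp hl hl' e'
    exact hinjK c c' hc hc' e4

end Main

end Cfsg.Agent.Helper7.TiMult
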