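import Cfsg.Agent.Helper7.TiMult.Fusion

/-!
# Membership in `T0` through intermediate generators

A coded permutation that agrees pointwise with a word in coded permutations already known to lie
in `T0` lies in `T0`.
-/

set_option autoImplicit false
set_option maxRecDepth 1000000

namespace Cfsg.Agent.Helper7.TiMult

open Cfsg.Agent.Helper56 Cfsg.Agent.Helper56.PermW Cfsg.Agent.Helper56.Tits
open Cfsg.Agent.Helper7.ModTC

/-- the letter `l` of `cs` agrees pointwise with the word `w` in the letters of `cs0` -/
def memChk2 (cs0 : List ℕ) (cs : List ℕ) (l : ℕ) (w : List ℕ) : Bool :=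
  lettersLt cs0.length w &&
    (List.range 1755).all fun p => dig 12 4095 (cs.getD l 0) p == appWord 12 4095 cs0 w p

theorem mem_of_memChk2 {cs0 cis0 : List ℕ} (hv0 : allValid 12 4095 1755 cs0 cis0 = true)
    (hmem0 : ∀ j < cs0.length, gn cs0 cis0 j ∈ T0)
    {cs cis : List ℕ} (hv : allValid 12 4095 1755 cs cis = true) {l : ℕ}
    (hl : l < cs.length) {w : List ℕ} (h : memChk2 cs0 cs l w = true) : gn cs cis l ∈ T0 := by
  simp only [memChk2, Bool.and_eq_true, List.all_eq_true, List.mem_range, beq_iff_eq] at h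
  obtain ⟨h1, h2⟩ := h
  have e : gn cs cis l = wprod (gn cs0 cis0) w := by
    ext p
    rw [genOf_apply hv l hl p, wprod_apply hv0 w (lettersLt_spec h1) p]
    exact h2 p.val p.isLt
  rw [e]
  unfold wprod
  apply Subgroup.list_prod_mem
  intro x hx
  rw [List.mem_map] at hx
  obtain ⟨j, hj, rfl⟩ := hx
  exact hmem0 j (lettersLt_spec h1 j hj)

end Cfsg.Agent.Helper7.TiMult
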