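import Cfsg.Agent.Helper7.TiMult.p1Chk0
import Cfsg.Agent.Helper7.TiMult.p1Chk1
import Cfsg.Agent.Helper7.TiMult.p1Chk2
import Cfsg.Agent.Helper7.TiMult.p1Chk3
import Cfsg.Agent.Helper7.TiMult.p1Chk4
import Cfsg.Agent.Helper7.TiMult.p1Chk5
import Cfsg.Agent.Helper7.TiMult.p1Chk6
import Cfsg.Agent.Helper7.TiMult.p1Chk7
import Cfsg.Agent.Helper7.TiMult.p1Chk8
import Cfsg.Agent.Helper7.TiMult.p1Chk9
import Cfsg.Agent.Helper7.TiMult.p1Chk10
import Cfsg.Agent.Helper7.TiMult.p1Chk11
import Cfsg.Agent.Helper7.TiMult.p1Chk12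
import Cfsg.Agent.Helper7.TiMult.p1Chk13
import Cfsg.Agent.Helper7.TiMult.p1Chk14
import Cfsg.Agent.Helper7.TiMult.p1Chk15
import Cfsg.Agent.Helper7.TiMult.p1Chk16
import Cfsg.Agent.Helper7.TiMult.p1Chk17
import Cfsg.Agent.Helper7.TiMult.p1Chk18
import Cfsg.Agent.Helper7.TiMult.p1Chk19
import Cfsg.Agent.Helper7.TiMult.p1Chk20
import Cfsg.Agent.Helper7.TiMult.p1Chk21
import Cfsg.Agent.Helper7.TiMult.p1Chk22
import Cfsg.Agent.Helper7.TiMult.p1Chk23
import Cfsg.Agent.Helper7.TiMult.p1Chk24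
import Cfsg.Agent.Helper7.TiMult.p1Chk25
import Cfsg.Agent.Helper7.TiMult.p1Chk26
import Cfsg.Agent.Helper7.TiMult.p1Chk27
import Cfsg.Agent.Helper7.TiMult.p1Chk28
import Cfsg.Agent.Helper7.TiMult.p1Chk29
import Cfsg.Agent.Helper7.TiMult.p1Chk30
import Cfsg.Agent.Helper7.TiMult.p1Chk31
import Cfsg.Agent.Helper7.TiMult.p1Chk32
import Cfsg.Agent.Helper7.TiMult.p1Chk33
import Cfsg.Agent.Helper7.TiMult.p1Chk34
import Cfsg.Agent.Helper7.TiMult.p1Chk35
import Cfsg.Agent.Helper7.TiMult.p1Chk36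
import Cfsg.Agent.Helper7.TiMult.p1Chk37
import Cfsg.Agent.Helper7.TiMult.p1Chk38
import Cfsg.Agent.Helper7.TiMult.p1Chk39

set_option autoImplicit false
set_option maxRecDepth 1000000
set_option maxHeartbeats 0

namespace Cfsg.Agent.Helper7.TiMult

open Cfsg.Agent.Helper7.ModTC

theorem p1_chk : ∀ c l, c < p1C.N → l < p1C.nl → p1C.chkEdge c l = true := by
  intro c l hc hl
  have hc' : c < 10240 := hc
  rcases Nat.lt_or_ge c 256 with h0 | h0
  · exact p1C.chkRange_spec p1_chk0 (by omega) (by omega) hl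
  rcases Nat.lt_or_ge c 512 with h1 | h1
  · exact p1C.chkRange_spec p1_chk1 (by omega) (by omega) hl
  rcases Nat.lt_or_ge c 768 with h2 | h2
  · exact p1C.chkRange_spec p1_chk2 (by omega) (by omega) hl
  rcases Nat.lt_or_ge c 1024 with h3 | h3
  · exact p1C.chkRange_spec p1_chk3 (by omega) (by omega) hl
  rcases Nat.lt_or_ge c 1280 with h4 | h4
  · exact p1C.chkRange_spec p1_chk4 (by omega) (by omega) hl
  rcases Nat.lt_or_ge c 1536 with h5 | h5
  · exact p1C.chkRange_spec p1_chk5 (by omega) (by omega) hl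
  rcases Nat.lt_or_ge c 1792 with h6 | h6
  · exact p1C.chkRange_spec p1_chk6 (by omega) (by omega) hl
  rcases Nat.lt_or_ge c 2048 with h7 | h7
  · exact p1C.chkRange_spec p1_chk7 (by omega) (by omega) hl
  rcases Nat.lt_or_ge c 2304 with h8 | h8
  · exact p1C.chkRange_spec p1_chk8 (by omega) (by omega) hl
  rcases Nat.lt_or_ge c 2560 with h9 | h9
  · exact p1C.chkRange_spec p1_chk9 (by omega) (by omega) hl
  rcases Nat.lt_or_ge c 2816 with h10 | h10
  · exact p1C.chkRange_spec p1_chk10 (by omega) (by omega) hl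
  rcases Nat.lt_or_ge c 3072 with h11 | h11
  · exact p1C.chkRange_spec p1_chk11 (by omega) (by omega) hl
  rcases Nat.lt_or_ge c 3328 with h12 | h12
  · exact p1C.chkRange_spec p1_chk12 (by omega) (by omega) hl
  rcases Nat.lt_or_ge c 3584 with h13 | h13
  · exact p1C.chkRange_spec p1_chk13 (by omega) (by omega) hl
  rcases Nat.lt_or_ge c 3840 with h14 | h14
  · exact p1C.chkRange_spec p1_chk14 (by omega) (by omega) hl
  rcases Nat.lt_or_ge c 4096 with h15 | h15
  · exact p1C.chkRange_spec p1_chk15 (by omega) (by omega) hl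
  rcases Nat.lt_or_ge c 4352 with h16 | h16
  · exact p1C.chkRange_spec p1_chk16 (by omega) (by omega) hl
  rcases Nat.lt_or_ge c 4608 with h17 | h17
  · exact p1C.chkRange_spec p1_chk17 (by omega) (by omega) hl
  rcases Nat.lt_or_ge c 4864 with h18 | h18
  · exact p1C.chkRange_spec p1_chk18 (by omega) (by omega) hl
  rcases Nat.lt_or_ge c 5120 with h19 | h19
  · exact p1C.chkRange_spec p1_chk19 (by omega) (by omega) hl
  rcases Nat.lt_or_ge c 5376 with h20 | h20
  · exact p1C.chkRange_spec p1_chk20 (by omega) (by omega) hl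
  rcases Nat.lt_or_ge c 5632 with h21 | h21
  · exact p1C.chkRange_spec p1_chk21 (by omega) (by omega) hl
  rcases Nat.lt_or_ge c 5888 with h22 | h22
  · exact p1C.chkRange_spec p1_chk22 (by omega) (by omega) hl
  rcases Nat.lt_or_ge c 6144 with h23 | h23
  · exact p1C.chkRange_spec p1_chk23 (by omega) (by omega) hl
  rcases Nat.lt_or_ge c 6400 with h24 | h24
  · exact p1C.chkRange_spec p1_chk24 (by omega) (by omega) hl
  rcases Nat.lt_or_ge c 6656 with h25 | h25
  · exact p1C.chkRange_spec p1_chk25 (by omega) (by omega) hl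
  rcases Nat.lt_or_ge c 6912 with h26 | h26
  · exact p1C.chkRange_spec p1_chk26 (by omega) (by omega) hl
  rcases Nat.lt_or_ge c 7168 with h27 | h27
  · exact p1C.chkRange_spec p1_chk27 (by omega) (by omega) hl
  rcases Nat.lt_or_ge c 7424 with h28 | h28
  · exact p1C.chkRange_spec p1_chk28 (by omega) (by omega) hl
  rcases Nat.lt_or_ge c 7680 with h29 | h29
  · exact p1C.chkRange_spec p1_chk29 (by omega) (by omega) hl
  rcases Nat.lt_or_ge c 7936 with h30 | h30
  · exact p1C.chkRange_spec p1_chk30 (by omega) (by omega) hl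
  rcases Nat.lt_or_ge c 8192 with h31 | h31
  · exact p1C.chkRange_spec p1_chk31 (by omega) (by omega) hl
  rcases Nat.lt_or_ge c 8448 with h32 | h32
  · exact p1C.chkRange_spec p1_chk32 (by omega) (by omega) hl
  rcases Nat.lt_or_ge c 8704 with h33 | h33
  · exact p1C.chkRange_spec p1_chk33 (by omega) (by omega) hl
  rcases Nat.lt_or_ge c 8960 with h34 | h34
  · exact p1C.chkRange_spec p1_chk34 (by omega) (by omega) hl
  rcases Nat.lt_or_ge c 9216 with h35 | h35
  · exact p1C.chkRange_spec p1_chk35 (by omega) (by omega) hl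
  rcases Nat.lt_or_ge c 9472 with h36 | h36
  · exact p1C.chkRange_spec p1_chk36 (by omega) (by omega) hl
  rcases Nat.lt_or_ge c 9728 with h37 | h37
  · exact p1C.chkRange_spec p1_chk37 (by omega) (by omega) hl
  rcases Nat.lt_or_ge c 9984 with h38 | h38
  · exact p1C.chkRange_spec p1_chk38 (by omega) (by omega) hl
  exact p1C.chkRange_spec p1_chk39 (by omega) (by omega) hl

end Cfsg.Agent.Helper7.TiMult
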