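import Cfsg.Agent.Helper7.TiMult.p1GData

set_option autoImplicit false
set_option maxRecDepth 1000000
set_option maxHeartbeats 0

namespace Cfsg.Agent.Helper7.TiMult

open Cfsg.Agent.Helper7.ModTC

theorem p1_node3 : nodeRange p1Cs 2 p1Bp p1Wk p1C p1KeyT 1536 512 = true := by
  decide +kernel

end Cfsg.Agent.Helper7.TiMult
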