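import Cfsg.Agent.Helper7.TiMult.p1Node0
import Cfsg.Agent.Helper7.TiMult.p1Node1
import Cfsg.Agent.Helper7.TiMult.p1Node2
import Cfsg.Agent.Helper7.TiMult.p1Node3
import Cfsg.Agent.Helper7.TiMult.p1Node4
import Cfsg.Agent.Helper7.TiMult.p1Node5
import Cfsg.Agent.Helper7.TiMult.p1Node6
import Cfsg.Agent.Helper7.TiMult.p1Node7
import Cfsg.Agent.Helper7.TiMult.p1Node8
import Cfsg.Agent.Helper7.TiMult.p1Node9
import Cfsg.Agent.Helper7.TiMult.p1Node10
import Cfsg.Agent.Helper7.TiMult.p1Node11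
import Cfsg.Agent.Helper7.TiMult.p1Node12
import Cfsg.Agent.Helper7.TiMult.p1Node13
import Cfsg.Agent.Helper7.TiMult.p1Node14
import Cfsg.Agent.Helper7.TiMult.p1Node15
import Cfsg.Agent.Helper7.TiMult.p1Node16
import Cfsg.Agent.Helper7.TiMult.p1Node17
import Cfsg.Agent.Helper7.TiMult.p1Node18
import Cfsg.Agent.Helper7.TiMult.p1Node19
import Cfsg.Agent.Helper7.TiMult.p1ChkAll
import Cfsg.Agent.Helper7.TiMult.p1FData
import Cfsg.Agent.Helper7.ModTC.LinGen

set_option autoImplicit false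
set_option maxRecDepth 1000000
set_option maxHeartbeats 0

namespace Cfsg.Agent.Helper7.TiMult

open Cfsg.Agent.Helper56 Cfsg.Agent.Helper56.PermW Cfsg.Agent.Helper56.Tits
open Cfsg.Agent.Helper7.ModTC

universe u

theorem p1_node : ∀ c < p1C.N, nodeChk p1Cs 2 p1Bp p1Wk p1C p1KeyT c = true := by
  intro c hc
  have hc' : c < 10240 := hc
  rcases Nat.lt_or_ge c 512 with h0 | h0
  · exact nodeRange_spec p1_node0 (by omega) (by omega)
  rcases Nat.lt_or_ge c 1024 with h1 | h1
  · exact nodeRange_spec p1_node1 (by omega) (by omega)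
  rcases Nat.lt_or_ge c 1536 with h2 | h2
  · exact nodeRange_spec p1_node2 (by omega) (by omega)
  rcases Nat.lt_or_ge c 2048 with h3 | h3
  · exact nodeRange_spec p1_node3 (by omega) (by omega)
  rcases Nat.lt_or_ge c 2560 with h4 | h4
  · exact nodeRange_spec p1_node4 (by omega) (by omega)
  rcases Nat.lt_or_ge c 3072 with h5 | h5
  · exact nodeRange_spec p1_node5 (by omega) (by omega)
  rcases Nat.lt_or_ge c 3584 with h6 | h6
  · exact nodeRange_spec p1_node6 (by omega) (by omega)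
  rcases Nat.lt_or_ge c 4096 with h7 | h7
  · exact nodeRange_spec p1_node7 (by omega) (by omega)
  rcases Nat.lt_or_ge c 4608 with h8 | h8
  · exact nodeRange_spec p1_node8 (by omega) (by omega)
  rcases Nat.lt_or_ge c 5120 with h9 | h9
  · exact nodeRange_spec p1_node9 (by omega) (by omega)
  rcases Nat.lt_or_ge c 5632 with h10 | h10
  · exact nodeRange_spec p1_node10 (by omega) (by omega)
  rcases Nat.lt_or_ge c 6144 with h11 | h11
  · exact nodeRange_spec p1_node11 (by omega) (by omega)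
  rcases Nat.lt_or_ge c 6656 with h12 | h12
  · exact nodeRange_spec p1_node12 (by omega) (by omega)
  rcases Nat.lt_or_ge c 7168 with h13 | h13
  · exact nodeRange_spec p1_node13 (by omega) (by omega)
  rcases Nat.lt_or_ge c 7680 with h14 | h14
  · exact nodeRange_spec p1_node14 (by omega) (by omega)
  rcases Nat.lt_or_ge c 8192 with h15 | h15
  · exact nodeRange_spec p1_node15 (by omega) (by omega)
  rcases Nat.lt_or_ge c 8704 with h16 | h16
  · exact nodeRange_spec p1_node16 (by omega) (by omega)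
  rcases Nat.lt_or_ge c 9216 with h17 | h17
  · exact nodeRange_spec p1_node17 (by omega) (by omega)
  rcases Nat.lt_or_ge c 9728 with h18 | h18
  · exact nodeRange_spec p1_node18 (by omega) (by omega)
  exact nodeRange_spec p1_node19 (by omega) (by omega)

theorem p1_valid : allValid 12 4095 1755 p1Cs p1Cis = true := by decide +kernel

theorem p1_pair : pairChk p1Cs p1Cis 2 = true := by decide +kernel

theorem p1_rel : relChk p1Cs 1 2 4 p1Rels p1Zws = true := by decide +kernel

theorem p1_sort : sortChk p1KeyT p1Wk p1SigT p1Ws 10240 = true := by decide +kernel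

theorem p1_mem0 : memChk p1Cs 0 (p1Mem.getD 0 []) = true := by decide +kernel

theorem p1_mem1 : memChk p1Cs 2 (p1Mem.getD 1 []) = true := by decide +kernel

theorem p1_mem : ∀ i < 2, gn p1Cs p1Cis (2 * i) ∈ T0 := by
  intro i hi
  have hl : p1Cs.length = 4 := len_cs p1_pair
  interval_cases i
  · exact mem_of_memChk p1_valid (by rw [hl]; norm_num) p1_mem0
  · exact mem_of_memChk p1_valid (by rw [hl]; norm_num) p1_mem1

theorem p1_bp : ∀ p ∈ p1Bp, p < 1755 := by decide

def p1Pairs : List (ℕ × ℕ) := [(5, 0), (0, 1695), (5, 141)]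

def p1U : List (List ℤ) := [[0, 0, 0, 0], [-1, 0, 0, 0], [5, 5, -3, -1], [3, 0, 1, 0]]

def p1U0 : List ℤ := [5, 5, -3, -1]

def p1Eps : List ℤ := [0, 0, 0, 0]

/-- the relation vectors: closed walks of the table, and the fusion of a commutator -/
def p1Rho : List (List ℤ) := relList p1C 999999 p1Pairs ++ [vadd p1V1 (vneg p1V2)]

theorem p1_lin0 : lincomb p1U0 p1Rho = vsmul 1 (padUnit 4 2) := by
  decide +kernel

theorem p1_lin : ∀ j, 1 ≤ j → j < 4 → lincomb (p1U.getD j []) p1Rho =
    vadd (padUnit 4 j) (vsmul (-(p1Eps.getD j 0)) (padUnit 4 2)) := by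
  decide +kernel

theorem p1_esum : ∀ j, j ≠ 0 → (esum (p1Rels.getD j [])).getD 0 0 = 0 := by
  intro j hj
  rcases Nat.lt_or_ge j 4 with h | h
  · have : ∀ j < 4, j ≠ 0 → (esum (p1Rels.getD j [])).getD 0 0 = 0 := by decide
    exact this j h hj
  · have hl : p1Rels.length = 4 := rfl
    have hd : p1Rels.getD j [] = [] := List.getD_eq_default _ _ (by omega)
    rw [hd]
    rfl

theorem p1_esum0 : (esum (p1Rels.getD 0 [])).getD 0 0 = 4 := by decide

theorem p1_cvalid : allValid 12 4095 1755 p1Cc p1Cci = true := by decide +kernel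

theorem p1_cmemchk : memChk p1Cc 0 p1CW = true := by decide +kernel

theorem p1_cmem : gn p1Cc p1Cci 0 ∈ T0 := mem_of_memChk p1_cvalid (by decide) p1_cmemchk

theorem p1_conj_g : conjChk p1Cs (p1Cc.getD 0 0) p1Tg p1Tg2 = true := by decide +kernel

theorem p1_conj_h : conjChk p1Cs (p1Cc.getD 0 0) p1Th p1Th2 = true := by decide +kernel

theorem p1_walk1 : p1C.walk 999999 0 (commW p1Tg p1Th) = some (0, p1V1) := by decide +kernel

theorem p1_walk2 : p1C.walk 999999 0 (commW p1Tg2 p1Th2) = some (0, p1V2) := by decide +kernel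

theorem p1_letters : lettersLt 4 p1Tg = true ∧ lettersLt 4 p1Th = true ∧ lettersLt 4 p1Tg2 = true ∧
    lettersLt 4 p1Th2 = true := by decide

/-- the conjugation of an element of the subgroup by the fusing element, in `T0` -/
theorem p1_conj_T0 {u u' : List ℕ} (hu : lettersLt 4 u = true) (hu' : lettersLt 4 u' = true)
    (h : conjChk p1Cs (p1Cc.getD 0 0) u u' = true) :
    (⟨gn p1Cc p1Cci 0, p1_cmem⟩ : ↥T0)⁻¹ * ev (xOf p1Cs p1Cis 2 p1_mem) u *
      ⟨gn p1Cc p1Cci 0, p1_cmem⟩ = ev (xOf p1Cs p1Cis 2 p1_mem) u' := by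
  have hc : validCode 12 4095 1755 (p1Cc.getD 0 0) (p1Cci.getD 0 0) = true :=
    allValid_spec p1_cvalid 0 (by decide)
  have e := conj_of_chk p1_valid p1_pair hc (lettersLt_spec hu) (lettersLt_spec hu') h
  apply Subtype.ext
  rw [Subgroup.coe_mul, Subgroup.coe_mul, Subgroup.coe_inv,
    coe_ev_wprod p1_valid p1_pair p1_mem (lettersLt_spec hu),
    coe_ev_wprod p1_valid p1_pair p1_mem (lettersLt_spec hu')]
  show (permOfCode 12 4095 1755 (p1Cc.getD 0 0) (p1Cci.getD 0 0))⁻¹ * wprod (gn p1Cs p1Cis) u *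
    permOfCode 12 4095 1755 (p1Cc.getD 0 0) (p1Cci.getD 0 0) = wprod (gn p1Cs p1Cis) u'
  rw [mul_assoc, ← e, ← mul_assoc, inv_mul_cancel, one_mul]

/-- the `1755`-th powers of the elements of the kernel of a finite stem extension of the Tits group
are trivial: labelled coset table of the centraliser `2.[2^8].5.4` of an involution, of order
`10240`, whose multiplier of order `2` is killed by the fusion of a pair of commuting elements
under an element of order three of the other maximal `2`-local subgroup -/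
theorem p1_main {Γ : Type u} [Group Γ] [Finite Γ] (σ : Γ →* ↥T0)
    (hσ : Cfsg.IsStemExtension σ) : ∀ g ∈ σ.ker, g ^ 1755 = 1 := by
  obtain ⟨hcard, X, z, hX, hzker, hzm, hrel, hwalk, hker⟩ :=
    glue_main σ hσ p1C 1 2 4 p1Rels p1Zws p1Cs p1Cis p1Bp p1Wk p1KeyT p1SigT
      p1Ws p1_mem p1_valid p1_pair p1_bp rfl rfl rfl (by norm_num) p1_rel p1_node p1_sort
      (by decide +kernel) (by decide) p1_chk
  have hz : ∀ j, z j ∈ Subgroup.center Γ := fun j => hσ.2.1 (hzker j)
  have hidx : (Subgroup.closure (Set.range (xOf p1Cs p1Cis 2 p1_mem))).index = 1755 := by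
    have h2 := Subgroup.card_mul_index (Subgroup.closure (Set.range (xOf p1Cs p1Cis 2 p1_mem)))
    rw [hcard, card_T0] at h2
    have : p1C.N = 10240 := rfl
    rw [this] at h2
    omega
  have hσX : (fun i => σ (X i)) = xOf p1Cs p1Cis 2 p1_mem := funext hX
  -- the fusion
  obtain ⟨Cl, hCl⟩ := hσ.1 (⟨gn p1Cc p1Cci 0, p1_cmem⟩ : ↥T0)
  obtain ⟨l1, l2, l3, l4⟩ := p1_letters
  have hf : zpv z 0 p1V1 = zpv z 0 p1V2 := by
    rw [← hwalk _ _ _ p1_walk1, ← hwalk _ _ _ p1_walk2, ev_commW, ev_commW]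
    symm
    apply comm_fusion σ hσ.2.1 (ev X p1Tg) (ev X p1Th) (ev X p1Tg2) (ev X p1Th2) Cl
    · rw [map_mul, map_mul, map_inv, hCl, ev_map, ev_map, hσX]
      exact p1_conj_T0 l1 l3 p1_conj_g
    · rw [map_mul, map_mul, map_inv, hCl, ev_map, ev_map, hσX]
      exact p1_conj_T0 l2 l4 p1_conj_h
    · rw [← ev_commW, hwalk _ _ _ p1_walk1]
      exact zpv_mem_center hz 0 _
  have hρ : ∀ ρ ∈ p1Rho, zpv z 0 ρ = 1 := by
    intro ρ hρ
    unfold p1Rho at hρ
    rcases List.mem_append.mp hρ with h | h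
    · exact relList_spec (C := p1C) (bd := 999999) (pairs := p1Pairs) hrel ρ h
    · rw [List.mem_singleton] at h
      rw [h, zpv_vadd hz, zpv_vneg hz, hf, mul_inv_cancel]
  obtain ⟨h1, hall⟩ := cyc_case hz 4 2 1 1 hzm p1Rho hρ p1Eps p1U0 p1U p1_lin0 p1_lin
  have hz2 : z 2 = 1 := by simpa using h1
  intro g hg
  obtain ⟨w, hw, htrk⟩ := hker g hg
  rw [hidx] at hw
  rw [hw]
  have hmem := hall w (by
    intro j hj
    have hj0 : j = 0 := by omega
    subst hj0
    have h4 := htrk 0 (by norm_num)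
    unfold trk at h4
    rw [wsum_single _ 0 p1_esum 0 w, if_pos le_rfl, p1_esum0] at h4
    simpa using h4)
  rw [hz2, Subgroup.zpowers_one_eq_bot, Subgroup.mem_bot] at hmem
  exact hmem

end Cfsg.Agent.Helper7.TiMult
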