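import Cfsg.Agent.Helper7.TiMult.q3Data

set_option autoImplicit false
set_option maxRecDepth 1000000
set_option maxHeartbeats 0

namespace Cfsg.Agent.Helper7.TiMult

open Cfsg.Agent.Helper7.ModTC

theorem q3_chk10 : q3C.chkRange 2560 256 = true := by decide +kernel

end Cfsg.Agent.Helper7.TiMult
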