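import Cfsg.Agent.Helper7.TiMult.q3Chk0
import Cfsg.Agent.Helper7.TiMult.q3Chk1
import Cfsg.Agent.Helper7.TiMult.q3Chk2
import Cfsg.Agent.Helper7.TiMult.q3Chk3
import Cfsg.Agent.Helper7.TiMult.q3Chk4
import Cfsg.Agent.Helper7.TiMult.q3Chk5
import Cfsg.Agent.Helper7.TiMult.q3Chk6
import Cfsg.Agent.Helper7.TiMult.q3Chk7
import Cfsg.Agent.Helper7.TiMult.q3Chk8
import Cfsg.Agent.Helper7.TiMult.q3Chk9
import Cfsg.Agent.Helper7.TiMult.q3Chk10
import Cfsg.Agent.Helper7.TiMult.q3Chk11
import Cfsg.Agent.Helper7.TiMult.q3Chk12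
import Cfsg.Agent.Helper7.TiMult.q3Chk13
import Cfsg.Agent.Helper7.TiMult.q3Chk14
import Cfsg.Agent.Helper7.TiMult.q3Chk15
import Cfsg.Agent.Helper7.TiMult.q3Chk16
import Cfsg.Agent.Helper7.TiMult.q3Chk17
import Cfsg.Agent.Helper7.TiMult.q3Chk18
import Cfsg.Agent.Helper7.TiMult.q3Chk19
import Cfsg.Agent.Helper7.TiMult.q3Chk20
import Cfsg.Agent.Helper7.TiMult.q3Chk21

set_option autoImplicit false
set_option maxRecDepth 1000000
set_option maxHeartbeats 0

namespace Cfsg.Agent.Helper7.TiMult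

open Cfsg.Agent.Helper7.ModTC

theorem q3_chk : ∀ c l, c < q3C.N → l < q3C.nl → q3C.chkEdge c l = true := by
  intro c l hc hl
  have hc' : c < 5616 := hc
  rcases Nat.lt_or_ge c 256 with h0 | h0
  · exact q3C.chkRange_spec q3_chk0 (by omega) (by omega) hl
  rcases Nat.lt_or_ge c 512 with h1 | h1
  · exact q3C.chkRange_spec q3_chk1 (by omega) (by omega) hl
  rcases Nat.lt_or_ge c 768 with h2 | h2
  · exact q3C.chkRange_spec q3_chk2 (by omega) (by omega) hl
  rcases Nat.lt_or_ge c 1024 with h3 | h3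
  · exact q3C.chkRange_spec q3_chk3 (by omega) (by omega) hl
  rcases Nat.lt_or_ge c 1280 with h4 | h4
  · exact q3C.chkRange_spec q3_chk4 (by omega) (by omega) hl
  rcases Nat.lt_or_ge c 1536 with h5 | h5
  · exact q3C.chkRange_spec q3_chk5 (by omega) (by omega) hl
  rcases Nat.lt_or_ge c 1792 with h6 | h6
  · exact q3C.chkRange_spec q3_chk6 (by omega) (by omega) hl
  rcases Nat.lt_or_ge c 2048 with h7 | h7
  · exact q3C.chkRange_spec q3_chk7 (by omega) (by omega) hl
  rcases Nat.lt_or_ge c 2304 with h8 | h8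
  · exact q3C.chkRange_spec q3_chk8 (by omega) (by omega) hl
  rcases Nat.lt_or_ge c 2560 with h9 | h9
  · exact q3C.chkRange_spec q3_chk9 (by omega) (by omega) hl
  rcases Nat.lt_or_ge c 2816 with h10 | h10
  · exact q3C.chkRange_spec q3_chk10 (by omega) (by omega) hl
  rcases Nat.lt_or_ge c 3072 with h11 | h11
  · exact q3C.chkRange_spec q3_chk11 (by omega) (by omega) hl
  rcases Nat.lt_or_ge c 3328 with h12 | h12
  · exact q3C.chkRange_spec q3_chk12 (by omega) (by omega) hl
  rcases Nat.lt_or_ge c 3584 with h13 | h13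
  · exact q3C.chkRange_spec q3_chk13 (by omega) (by omega) hl
  rcases Nat.lt_or_ge c 3840 with h14 | h14
  · exact q3C.chkRange_spec q3_chk14 (by omega) (by omega) hl
  rcases Nat.lt_or_ge c 4096 with h15 | h15
  · exact q3C.chkRange_spec q3_chk15 (by omega) (by omega) hl
  rcases Nat.lt_or_ge c 4352 with h16 | h16
  · exact q3C.chkRange_spec q3_chk16 (by omega) (by omega) hl
  rcases Nat.lt_or_ge c 4608 with h17 | h17
  · exact q3C.chkRange_spec q3_chk17 (by omega) (by omega) hl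
  rcases Nat.lt_or_ge c 4864 with h18 | h18
  · exact q3C.chkRange_spec q3_chk18 (by omega) (by omega) hl
  rcases Nat.lt_or_ge c 5120 with h19 | h19
  · exact q3C.chkRange_spec q3_chk19 (by omega) (by omega) hl
  rcases Nat.lt_or_ge c 5376 with h20 | h20
  · exact q3C.chkRange_spec q3_chk20 (by omega) (by omega) hl
  exact q3C.chkRange_spec q3_chk21 (by omega) (by omega) hl

end Cfsg.Agent.Helper7.TiMult
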